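import Mathlib
import Cfsg.Agent.Lib.ThompsonA.Thompson
import Cfsg.Agent.Lib.Coprime.Quotient
import Cfsg.Agent.Lib.TwoGroup.Recognition
import Cfsg.Agent.Lib.Offenders.Basic

/-!
`2`-groups in which every abelian subgroup of order `8` is cyclic, with an odd group of operators.
-/

set_option autoImplicit false

namespace Cfsg.Agent.Lib.NoncyclicEight

open Subgroup
open scoped commutatorElement

variable {G : Type*} [Group G]

/-- No noncyclic abelian subgroup of order `8`. -/
def Good (Y : Subgroup G) : Prop :=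
  ∀ A : Subgroup G, A ≤ Y → IsMulCommutative A → Nat.card A = 8 → IsCyclic A

theorem Good.mono {Y Y' : Subgroup G} (h : Good Y) (hle : Y' ≤ Y) : Good Y' :=
  fun A hA => h A (hA.trans hle)

/-- The data of a quaternion group of order `8` with involution `z`. -/
structure Eight (W : Subgroup G) (z : G) : Prop where
  card : Nat.card W = 8
  mem : z ∈ W
  ne : z ≠ 1
  sq : z * z = 1
  central : ∀ w ∈ W, z * w = w * z
  square : ∀ w ∈ W, w = 1 ∨ w = z ∨ w * w = z
  comm : ∀ a ∈ W, ∀ b ∈ W, ⁅a, b⁆ = 1 ∨ ⁅a, b⁆ = z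
  nonabelian : ¬ ∀ a ∈ W, ∀ b ∈ W, a * b = b * a

/-- Either a four-group or a quaternion group of order `8`. -/
def Small (W : Subgroup G) : Prop :=
  (Nat.card W = 4 ∧ ∀ w ∈ W, w * w = 1) ∨ ∃ z, Eight W z

section
variable [Finite G]

theorem card_sup_zpowers {U : Subgroup G} {y : G} (hy : y ∉ U) (hy2 : y ^ 2 ∈ U)
    (hn : y ∈ normalizer (U : Set G)) : Nat.card ↥(U ⊔ zpowers y) = 2 * Nat.card U := by
  have h2 : U.relIndex (U ⊔ zpowers y) = 2 := by
    refine TwoGroup.relIndex_eq_two (mem_sup_right (mem_zpowers y)) hy le_sup_left ?_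
    intro b hb
    rw [← SetLike.mem_coe, coe_mul_of_right_le_normalizer_left U (zpowers y) (zpowers_le.2 hn)] at hb
    obtain ⟨u, hu, c, hc, rfl⟩ := hb
    obtain ⟨i, rfl⟩ := mem_zpowers_iff.1 hc
    rcases Int.even_or_odd i with ⟨k, rfl⟩ | ⟨k, rfl⟩
    · left
      refine mul_mem hu ?_
      rw [← two_mul, zpow_mul, zpow_ofNat]
      exact zpow_mem hy2 k
    · right
      show u * y ^ (2 * k + 1) * y ∈ U
      rw [mul_assoc, ← zpow_add_one, show 2 * k + 1 + 1 = 2 * (k + 1) by ring, zpow_mul, zpow_ofNat]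
      exact mul_mem hu (zpow_mem hy2 _)
  rw [← relIndex_bot_left (U ⊔ zpowers y), ← relIndex_mul_relIndex ⊥ U _ bot_le le_sup_left, h2,
    relIndex_bot_left, mul_comm]

/-- Outside `U` some element has its square in `U`. -/
theorem exists_square_mem {U Y : Subgroup G} (hY : IsPGroup 2 Y) {g : G} (hgY : g ∈ Y) (hg : g ∉ U) :
    ∃ y ∈ zpowers g, y ∉ U ∧ y ^ 2 ∈ U ∧ y ∈ Y := by
  classical
  obtain ⟨n, hn⟩ := hY ⟨g, hgY⟩
  have hn' : g ^ 2 ^ n ∈ U := by
    rw [show g ^ 2 ^ n = 1 from congrArg Subtype.val hn]; exact one_mem _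
  set k := Nat.find (⟨n, hn'⟩ : ∃ n, g ^ 2 ^ n ∈ U)
  have hk : g ^ 2 ^ k ∈ U := Nat.find_spec (⟨n, hn'⟩ : ∃ n, g ^ 2 ^ n ∈ U)
  obtain ⟨j, hj⟩ : ∃ j, k = j + 1 := Nat.exists_eq_succ_of_ne_zero fun e => hg (by
    simpa [e] using hk)
  refine ⟨g ^ 2 ^ j, pow_mem (mem_zpowers g) _,
    Nat.find_min (⟨n, hn'⟩ : ∃ n, g ^ 2 ^ n ∈ U) (by omega), ?_, pow_mem hgY _⟩
  rw [← pow_mul, ← pow_succ, ← hj]
  exact hk

/-- A four-group central in a good group is the whole group. -/
theorem eq_four {Y U : Subgroup G} (hY : IsPGroup 2 Y) (hg : Good Y) (hUY : U ≤ Y)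
    (hU4 : Nat.card U = 4) (hU2 : ∀ u ∈ U, u * u = 1) (hc : Y ≤ centralizer (U : Set G)) :
    Y = U := by
  refine le_antisymm (fun g hgY => ?_) hUY
  by_contra hgU
  obtain ⟨y, -, hyU, hy2, hyY⟩ := exists_square_mem hY hgY hgU
  have hcard := card_sup_zpowers hyU hy2 (centralizer_le_normalizer _ (hc hyY))
  rw [hU4] at hcard
  have hUc : IsMulCommutative U := by
    refine ⟨⟨fun a b => Subtype.ext ?_⟩⟩
    exact (mem_centralizer_iff.1 (hc (hUY a.2)) b b.2).symm
  have hcomm := ThompsonA.isMulCommutative_sup hUc (inferInstance : IsMulCommutative (zpowers y))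
    fun a ha b hb => by
      obtain ⟨i, rfl⟩ := mem_zpowers_iff.1 hb
      exact mem_centralizer_iff.1 (zpow_mem (hc hyY) i) a ha
  have := hg _ (sup_le hUY (zpowers_le.2 hyY)) hcomm (by rw [hcard])
  have hUcyc : IsCyclic U := by
    obtain ⟨⟨x, hx⟩⟩ := (isCyclic_of_injective (inclusion (le_sup_left : U ≤ U ⊔ zpowers y))
      (inclusion_injective _))
    exact ⟨⟨x, hx⟩⟩
  obtain ⟨x, hx⟩ := hUcyc.exists_ofOrder_eq_natCard
  rw [hU4] at hx
  have h2 : orderOf x ∣ 2 := orderOf_dvd_of_pow_eq_one (Subtype.ext (by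
    push_cast
    rw [sq]
    exact hU2 _ x.2))
  rw [hx] at h2
  norm_num at h2

/-- A four-group spanned by two commuting involutions. -/
theorem four_closure {z t : G} (hz : z * z = 1) (ht : t * t = 1) (hz1 : z ≠ 1) (ht1 : t ≠ 1)
    (hzt : t ≠ z) (hc : z * t = t * z) :
    Nat.card ↥(zpowers z ⊔ zpowers t) = 4 ∧ (∀ u ∈ zpowers z ⊔ zpowers t, u * u = 1) := by
  have htz : t ∉ zpowers z := by
    intro h
    obtain ⟨i, hi⟩ := mem_zpowers_iff.1 h
    rcases Int.even_or_odd i with ⟨k, rfl⟩ | ⟨k, rfl⟩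
    · refine ht1 ?_
      rw [← hi, ← two_mul, zpow_mul, zpow_ofNat, sq, hz, one_zpow]
    · refine hzt ?_
      rw [← hi, zpow_add_one, zpow_mul, zpow_ofNat, sq, hz, one_zpow, one_mul]
  refine ⟨?_, ?_⟩
  · rw [card_sup_zpowers htz (by rw [sq, ht]; exact one_mem _) (centralizer_le_normalizer _
      (mem_centralizer_iff.2 fun w hw => by
        obtain ⟨i, rfl⟩ := mem_zpowers_iff.1 hw
        exact ((show Commute z t from hc).zpow_left i).eq)), Nat.card_zpowers,
      orderOf_eq_prime (p := 2) (by rw [sq, hz]) hz1]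
  · intro u hu
    have he : IsElementaryAbelian 2 (zpowers z ⊔ zpowers t) :=
      ElemAbelian.sup (ElemAbelian.zpowers (by rw [sq, hz])) (ElemAbelian.zpowers (by rw [sq, ht]))
        fun a ha b hb => by
          obtain ⟨i, rfl⟩ := mem_zpowers_iff.1 ha
          obtain ⟨k, rfl⟩ := mem_zpowers_iff.1 hb
          exact (((show Commute z t from hc).zpow_left i).zpow_right k).eq.symm
    rw [← sq]
    exact he.2 u hu

/-- A good group cannot centralise `⟨z, t⟩` and an element outside it. -/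
theorem not_commuting_triple {Y : Subgroup G} (hY : IsPGroup 2 Y) (hg : Good Y) {z t i : G}
    (hzY : z ∈ Y) (htY : t ∈ Y) (hiY : i ∈ Y) (hz : z * z = 1) (ht : t * t = 1) (hz1 : z ≠ 1)
    (ht1 : t ≠ 1) (hzt : t ≠ z) (hc : z * t = t * z) (hiz : i * z = z * i) (hit : i * t = t * i)
    (hi : i * i ≠ 1) : False := by
  obtain ⟨h4, h2⟩ := four_closure hz ht hz1 ht1 hzt hc
  set U := zpowers z ⊔ zpowers t
  have hUY : U ≤ Y := sup_le (zpowers_le.2 hzY) (zpowers_le.2 htY)
  set M := Y ⊓ centralizer (U : Set G) with hM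
  have hiM : i ∈ M := by
    refine ⟨hiY, mem_centralizer_iff.2 fun u hu => ?_⟩
    have : U ≤ centralizer ({i} : Set G) := sup_le
      (zpowers_le.2 (mem_centralizer_singleton_iff.2 hiz.symm))
      (zpowers_le.2 (mem_centralizer_singleton_iff.2 hit.symm))
    exact mem_centralizer_singleton_iff.1 (this hu)
  have hUM : U ≤ M := le_inf hUY (le_centralizer_iff_isMulCommutative.2
    ⟨⟨fun a b => Subtype.ext (ElemAbelian.comm (p := 2) (ElemAbelian.of_comm_of_pow
      (fun a ha b hb => by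
        have hab := h2 _ (mul_mem ha hb)
        calc a * b = a * 1 * b := by rw [mul_one]
          _ = a * (a * b * (a * b)) * b := by rw [hab]
          _ = a * a * b * a * (b * b) := by group
          _ = b * a := by rw [h2 a ha, h2 b hb, one_mul, mul_one])
      (fun a ha => by rw [sq]; exact h2 a ha)) a.2 b.2)⟩⟩)
  have := eq_four (hY.to_le inf_le_left) (hg.mono inf_le_left) hUM h4 h2 inf_le_right
  exact hi (h2 i (this.le hiM))

/-- An odd group of operators either centralises a good abelian group or it is a four-group. -/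
theorem abelian_good {H Y : Subgroup G} (hY : IsPGroup 2 Y) (hYc : ∀ a ∈ Y, ∀ b ∈ Y, a * b = b * a)
    (hg : Good Y) (hH : (Nat.card H).Coprime 2) (hHY : H ≤ normalizer (Y : Set G)) :
    H ≤ centralizer (Y : Set G) ∨ (Nat.card Y = 4 ∧ ∀ y ∈ Y, y * y = 1) := by
  by_cases hfix : ∀ h ∈ H, ∀ y ∈ Y, y ^ 2 = 1 → h * y = y * h
  · left
    intro h hh
    refine mem_centralizer_iff.2 fun y hy => ?_
    exact (ThompsonA.commute_of_commute_omega (hH.coprime_dvd_left (Subgroup.orderOf_dvd_natCard _ hh))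
      hY hYc (fun w hw => (mem_normalizer_iff.1 (hHY hh) w).1 hw) (hfix h hh) y hy).symm
  · right
    push Not at hfix
    obtain ⟨h, hh, y, hy, hy2, hne⟩ := hfix
    rw [sq] at hy2
    set t := h * y * h⁻¹ with ht
    have htY : t ∈ Y := (mem_normalizer_iff.1 (hHY hh) y).1 hy
    have hy1 : y ≠ 1 := fun e => hne (by rw [e, mul_one, one_mul])
    have ht2 : t * t = 1 := by
      calc t * t = h * (y * y) * h⁻¹ := by rw [ht]; group
        _ = 1 := by rw [hy2]; group
    have ht1 : t ≠ 1 := fun e => hy1 (conj_eq_one_iff.1 e)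
    have hty : t ≠ y := fun e => hne (mul_inv_eq_iff_eq_mul.1 e)
    obtain ⟨h4, h2⟩ := four_closure hy2 ht2 hy1 ht1 hty (hYc y hy t htY)
    have hUY : zpowers y ⊔ zpowers t ≤ Y := sup_le (zpowers_le.2 hy) (zpowers_le.2 htY)
    have := eq_four hY hg hUY h4 h2 fun a ha => mem_centralizer_iff.2 fun u hu =>
      hYc u (hUY hu) a ha
    rw [this]
    exact ⟨h4, h2⟩

namespace Eight

variable {W : Subgroup G} {z : G} (e : Eight W z)
include e

omit [Finite G] in
theorem isPGroup : IsPGroup 2 W := IsPGroup.of_card (n := 3) e.card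

/-- Generators `i, j` with `[i, j] = z`. -/
theorem exists_gen : ∃ i ∈ W, ∃ j ∈ W, ⁅i, j⁆ = z ∧ i * i = z ∧ j * j = z ∧
    j ∉ zpowers i ∧ zpowers i ⊔ zpowers j = W := by
  have hna := e.nonabelian
  push Not at hna
  obtain ⟨i, hi, j, hj, hij⟩ := hna
  have hcz : ⁅i, j⁆ = z := (e.comm i hi j hj).resolve_left fun h =>
    hij (commutatorElement_eq_one_iff_mul_comm.1 h)
  have hii : i * i = z := by
    rcases e.square i hi with h | h | h
    · exact absurd (by rw [h, one_mul, mul_one]) hij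
    · exact absurd (by rw [h, e.central j hj]) hij
    · exact h
  have hjj : j * j = z := by
    rcases e.square j hj with h | h | h
    · exact absurd (by rw [h, one_mul, mul_one]) hij
    · exact absurd (by rw [h, e.central i hi]) hij
    · exact h
  have hjn : j ∉ zpowers i := fun h => hij (by
    obtain ⟨k, rfl⟩ := mem_zpowers_iff.1 h
    exact ((Commute.refl i).zpow_right k).eq)
  refine ⟨i, hi, j, hj, hcz, hii, hjj, hjn, ?_⟩
  refine eq_of_le_of_card_ge (sup_le (zpowers_le.2 hi) (zpowers_le.2 hj)) ?_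
  have hi4 : Nat.card (zpowers i) = 4 := by
    rw [Nat.card_zpowers]
    exact orderOf_eq_prime_pow (p := 2) (n := 1) (by rw [pow_one, pow_two, hii]; exact e.ne)
      (by rw [show (2 : ℕ) ^ (1 + 1) = 2 * 2 from rfl, pow_mul, pow_two i, hii, pow_two, e.sq])
  rw [card_sup_zpowers hjn (by rw [pow_two, hjj, ← hii]; exact mul_mem (mem_zpowers i) (mem_zpowers i))
    ?_, hi4, e.card]
  rw [mem_normalizer_iff]
  have hconj : j * i * j⁻¹ = z * i := by
    have : ⁅j, i⁆ = z := by
      rw [← commutatorElement_inv i j, hcz]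
      exact inv_eq_of_mul_eq_one_right e.sq
    rw [← this, commutatorElement_def]
    group
  have hz : z ∈ zpowers i := hii ▸ mul_mem (mem_zpowers i) (mem_zpowers i)
  have hmap : ∀ w ∈ zpowers i, j * w * j⁻¹ ∈ zpowers i := by
    intro w hw
    obtain ⟨k, rfl⟩ := mem_zpowers_iff.1 hw
    rw [← conj_zpow, hconj]
    exact zpow_mem (mul_mem hz (mem_zpowers i)) k
  intro w
  refine ⟨hmap w, fun h => ?_⟩
  have h2 := hmap _ h
  have hw : j * (j * w * j⁻¹) * j⁻¹ = (j * j) * w * (j * j)⁻¹ := by group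
  rw [hw, hjj] at h2
  have hzz := mul_mem (mul_mem (inv_mem hz) h2) hz
  simpa [mul_assoc] using hzz

/-- An element inducing a central automorphism acts as an element of `W`. -/
theorem exists_inner {x : G} (hx : ∀ w ∈ W, ⁅x, w⁆ = 1 ∨ ⁅x, w⁆ = z) :
    ∃ f ∈ W, f⁻¹ * x ∈ centralizer (W : Set G) := by
  obtain ⟨i, hi, j, hj, hcz, hii, hjj, -, hgen⟩ := e.exists_gen
  have hxz : ∀ {w : G}, w ∈ W → x * w * x⁻¹ = w ∨ x * w * x⁻¹ = z * w := by
    intro w hw
    rcases hx w hw with h | h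
    · exact Or.inl (by rw [show x * w * x⁻¹ = ⁅x, w⁆ * w by group, h, one_mul])
    · exact Or.inr (by rw [show x * w * x⁻¹ = ⁅x, w⁆ * w by group, h])
  have hij : i * j * i⁻¹ = z * j := by rw [← hcz, commutatorElement_def]; group
  have hji : j * i * j⁻¹ = z * i := by
    rw [← inv_eq_of_mul_eq_one_right e.sq, ← hcz, commutatorElement_inv, commutatorElement_def]
    group
  suffices h : ∀ f ∈ W, f * i * f⁻¹ = x * i * x⁻¹ → f * j * f⁻¹ = x * j * x⁻¹ →
      f⁻¹ * x ∈ centralizer (W : Set G) by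
    rcases hxz hi with h1 | h1 <;> rcases hxz hj with h2 | h2
    · exact ⟨1, one_mem _, h 1 (one_mem _) (by rw [h1]; group) (by rw [h2]; group)⟩
    · exact ⟨i, hi, h i hi (by rw [h1]; group) (by rw [h2, hij])⟩
    · exact ⟨j, hj, h j hj (by rw [h1, hji]) (by rw [h2]; group)⟩
    · refine ⟨i * j, mul_mem hi hj, h _ (mul_mem hi hj) ?_ ?_⟩
      · rw [h1, show i * j * i * (i * j)⁻¹ = i * (j * i * j⁻¹) * i⁻¹ by group, hji,
          ← mul_assoc i z, ← e.central i hi]
        group
      · rw [h2, show i * j * j * (i * j)⁻¹ = i * j * i⁻¹ by group, hij]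
  intro f hf h1 h2
  have key : ∀ w, f * w * f⁻¹ = x * w * x⁻¹ → f⁻¹ * x * w = w * (f⁻¹ * x) := fun w hw => by
    calc f⁻¹ * x * w = f⁻¹ * (x * w * x⁻¹) * x := by group
      _ = w * (f⁻¹ * x) := by rw [← hw]; group
  have hle : W ≤ centralizer ({f⁻¹ * x} : Set G) := by
    rw [← hgen]
    exact sup_le (zpowers_le.2 (mem_centralizer_singleton_iff.2 (key i h1).symm))
      (zpowers_le.2 (mem_centralizer_singleton_iff.2 (key j h2).symm))
  exact mem_centralizer_iff.2 fun w hw => mem_centralizer_singleton_iff.1 (hle hw)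

/-- In a good group the centraliser of such a `W` lies in `⟨z⟩`. -/
theorem centralizer_le {Y : Subgroup G} (hY : IsPGroup 2 Y) (hg : Good Y) (hWY : W ≤ Y) :
    Y ⊓ centralizer (W : Set G) ≤ zpowers z := by
  obtain ⟨i, hi, j, hj, hcz, hii, hjj, -, hgen⟩ := e.exists_gen
  intro d hd
  by_contra hdz
  obtain ⟨y, hy, hyz, hy2, -⟩ := exists_square_mem hY hd.1 hdz
  have hyD : y ∈ Y ⊓ centralizer (W : Set G) := zpowers_le.2 hd hy
  have hyW : ∀ w ∈ W, w * y = y * w := fun w hw => mem_centralizer_iff.1 hyD.2 w hw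
  have hy2' : y * y = 1 ∨ y * y = z := by
    rw [← pow_two]
    obtain ⟨k, hk⟩ := mem_zpowers_iff.1 hy2
    rw [← hk]
    rcases Int.even_or_odd k with ⟨m, rfl⟩ | ⟨m, rfl⟩
    · left; rw [← two_mul, zpow_mul, zpow_ofNat, pow_two, e.sq, one_zpow]
    · right; rw [zpow_add_one, zpow_mul, zpow_ofNat, pow_two, e.sq, one_zpow, one_mul]
  have hi1 : i * i ≠ 1 := hii ▸ e.ne
  have hy1 : y ≠ 1 := fun h => hyz (h ▸ one_mem _)
  rcases hy2' with h | h
  · exact not_commuting_triple hY hg (hWY e.mem) hyD.1 (hWY hi) e.sq h e.ne hy1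
      (fun h' => hyz (h' ▸ mem_zpowers z)) (hyW z e.mem) (e.central i hi).symm (hyW i hi) hi1
  · have ht : i * y * (i * y) = 1 := by
      calc i * y * (i * y) = (i * i) * (y * y) := by
            rw [mul_assoc i y, ← mul_assoc y i, ← hyW i hi]; simp [mul_assoc]
        _ = 1 := by rw [hii, h, e.sq]
    have hne1 : i * y ≠ 1 := by
      intro h'
      have hyi : y = i⁻¹ := eq_inv_of_mul_eq_one_right h'
      have h1 := hyW j hj
      rw [hyi] at h1
      refine e.ne ?_
      have hC : Commute j i := by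
        have := (show Commute j i⁻¹ from h1).inv_right
        rwa [inv_inv] at this
      rw [← hcz, commutatorElement_eq_one_iff_mul_comm.2 hC.symm.eq]
    have hnez : i * y ≠ z := by
      intro h'
      have hyi : y = i⁻¹ * z := eq_inv_mul_of_mul_eq h'
      have h1 := hyW j hj
      refine e.ne ?_
      have hC : Commute j i := by
        have h3 : Commute j y := h1
        have h4 : Commute j z := (e.central j hj).symm
        have h5 := h4.mul_right (h3.inv_right)
        rw [hyi] at h5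
        simp only [mul_inv_rev, inv_inv] at h5
        rwa [← mul_assoc, mul_inv_cancel, one_mul] at h5
      rw [← hcz, commutatorElement_eq_one_iff_mul_comm.2 hC.symm.eq]
    exact not_commuting_triple hY hg (hWY e.mem) (mul_mem (hWY hi) hyD.1) (hWY hi) e.sq ht e.ne hne1
      hnez (by
        calc z * (i * y) = i * (z * y) := by rw [← mul_assoc, e.central i hi, mul_assoc]
          _ = i * y * z := by rw [hyW z e.mem, mul_assoc])
      (e.central i hi).symm (by rw [mul_assoc, ← hyW i hi]) hi1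

end Eight

end

end Cfsg.Agent.Lib.NoncyclicEight
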