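import Cfsg.Agent.Lib.NoncyclicEight.Small
import Cfsg.Agent.Lib.PGroup.Frattini

/-!
The structure of a `2`-group `X = [X, H]`, `H` of odd order, all of whose proper `H`-invariant
subgroups have only cyclic abelian subgroups of order `8`.
-/

set_option autoImplicit false

namespace Cfsg.Agent.Lib.NoncyclicEight

open Subgroup
open scoped commutatorElement

variable {G : Type*} [Group G] [Finite G]

omit [Finite G] in
theorem relIndex_two_of_card {K Y : Subgroup G} (hKY : K ≤ Y) (hK : 0 < Nat.card K)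
    (h : Nat.card Y = 2 * Nat.card K) : (K.subgroupOf Y).index = 2 := by
  have h1 := (K.subgroupOf Y).card_mul_index
  rw [Nat.card_congr (subgroupOfEquivOfLe hKY).toEquiv, h, mul_comm 2] at h1
  exact Nat.eq_of_mul_eq_mul_left hK h1

omit [Finite G] in
theorem inv_mul_conj_mem {K Y H : Subgroup G} (hKY : K ≤ Y) (h2 : (K.subgroupOf Y).index = 2)
    (hHK : H ≤ normalizer (K : Set G)) (hHY : H ≤ normalizer (Y : Set G)) {h u : G} (hh : h ∈ H)
    (hu : u ∈ Y) : u * (h * u⁻¹ * h⁻¹) ∈ K := by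
  have h3 := (mul_mem_iff_of_index_two h2 (a := (⟨u, hu⟩ : Y))
    (b := ⟨h * u⁻¹ * h⁻¹, (mem_normalizer_iff.1 (hHY hh) _).1 (inv_mem hu)⟩))
  rw [mem_subgroupOf, mem_subgroupOf, mem_subgroupOf] at h3
  refine h3.2 ⟨fun hk => (mem_normalizer_iff.1 (hHK hh) _).1 (inv_mem hk), fun hk => ?_⟩
  exact inv_mem_iff.1 ((mem_normalizer_iff.1 (hHK hh) _).2 hk)

/-- An invariant subgroup of index two contains the commutator. -/
theorem commutator_le_of_index_two {K Y H : Subgroup G} (hKY : K ≤ Y)
    (h : Nat.card Y = 2 * Nat.card K)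
    (hHK : H ≤ normalizer (K : Set G)) (hHY : H ≤ normalizer (Y : Set G)) : ⁅Y, H⁆ ≤ K := by
  refine commutator_le.2 fun u hu x hx => ?_
  have := inv_mul_conj_mem hKY (relIndex_two_of_card hKY Nat.card_pos h) hHK hHY hx hu
  rw [commutatorElement_def]
  simpa [mul_assoc] using this

omit [Finite G] in
theorem coprime_card {H Y : Subgroup G} [Finite Y] (hH : (Nat.card H).Coprime 2) (hY : IsPGroup 2 Y) :
    (Nat.card H).Coprime (Nat.card Y) := by
  have : Fact (Nat.Prime 2) := ⟨Nat.prime_two⟩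
  obtain ⟨n, hn⟩ := IsPGroup.iff_card.1 hY
  exact hn ▸ hH.pow_right n

omit [Finite G] in
theorem isPGroup_of_four {W : Subgroup G} (h4 : Nat.card W = 4) : IsPGroup 2 W :=
  IsPGroup.of_card (n := 2) (by rw [h4]; norm_num)

omit [Finite G] in
theorem comm_of_sq_one {W : Subgroup G} (h2 : ∀ w ∈ W, w * w = 1) :
    ∀ a ∈ W, ∀ b ∈ W, a * b = b * a := by
  intro a ha b hb
  have ha' : a⁻¹ = a := inv_eq_of_mul_eq_one_right (h2 a ha)
  have hb' : b⁻¹ = b := inv_eq_of_mul_eq_one_right (h2 b hb)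
  have hab : (a * b)⁻¹ = a * b := inv_eq_of_mul_eq_one_right (h2 _ (mul_mem ha hb))
  rw [← hab, mul_inv_rev, ha', hb']

/-- A `2`-group normalising `W = [W, H]` and normalised by `H` acts trivially on `W` modulo its
centre. -/
theorem small_commutator {W P H : Subgroup G} (hW : Small W) (hH : (Nat.card H).Coprime 2)
    (hHW : H ≤ normalizer (W : Set G)) (hWH : ⁅W, H⁆ = W) (hP : IsPGroup 2 P)
    (hPW : P ≤ normalizer (W : Set G)) (hHP : H ≤ normalizer (P : Set G)) :
    (Nat.card W = 4 ∧ (∀ w ∈ W, w * w = 1) ∧ P ≤ centralizer (W : Set G)) ∨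
      ∃ z, Eight W z ∧ ∀ x ∈ P, ∀ w ∈ W, ⁅x, w⁆ = 1 ∨ ⁅x, w⁆ = z := by
  have : Fact (Nat.Prime 2) := ⟨Nat.prime_two⟩
  have hWp : IsPGroup 2 W := by
    rcases hW with ⟨h4, -⟩ | ⟨z, e⟩
    · exact isPGroup_of_four h4
    · exact e.isPGroup
  have hWne : W ≠ ⊥ := fun h => by
    rcases hW with ⟨h4, -⟩ | ⟨z, e⟩
    · rw [h, card_bot] at h4; norm_num at h4
    · have := e.card; rw [h, card_bot] at this; norm_num at this
  set K := ⁅W, P⁆ with hK
  have hKlt : K < W := Coprime.commutator_lt_of_isPGroup hWp hP hPW hWne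
  have hHK : H ≤ normalizer (K : Set G) := Coprime.le_normalizer_commutator hHW hHP
  have hKle : 2 * Nat.card K ≤ Nat.card W :=
    Offenders.le_card_relIndex_step hWp hKlt
  rcases hW with ⟨h4, h2⟩ | ⟨z, e⟩
  · refine Or.inl ⟨h4, h2, ?_⟩
    have hKc : H ≤ centralizer (K : Set G) := by
      rcases abelian_good (hWp.to_le hKlt.le)
        (fun a ha b hb => comm_of_sq_one h2 a (hKlt.le ha) b (hKlt.le hb))
        (fun A hA _ h8 => by
          have := card_le_of_le (hA.trans hKlt.le)
          omega) hH hHK with h | ⟨h, -⟩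
      · exact h
      · omega
    have hbot : K = ⊥ := by
      have : IsMulCommutative W := ⟨⟨fun a b => Subtype.ext (comm_of_sq_one h2 a a.2 b b.2)⟩⟩
      rw [_root_.eq_bot_iff, ← Coprime.inf_centralizer_inf_commutator_eq_bot hHW (coprime_card hH hWp),
        hWH]
      exact le_inf (le_inf hKlt.le (le_centralizer_iff.1 hKc)) hKlt.le
    rw [le_centralizer_iff]
    exact commutator_eq_bot_iff_le_centralizer.1 hbot
  · refine Or.inr ⟨z, e, fun x hx w hw => ?_⟩
    rw [e.card] at hKle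
    have hmem : ⁅x, w⁆ ∈ K := by
      rw [hK, commutator_comm]; exact commutator_mem_commutator hx hw
    by_cases hzK : z ∈ K
    swap
    · refine Or.inl ((e.square _ (hKlt.le hmem)).resolve_right fun h => ?_)
      rcases h with h | h
      · exact hzK (h ▸ hmem)
      · exact hzK (h ▸ mul_mem hmem hmem)
    obtain ⟨n, hn⟩ := IsPGroup.iff_card.1 (hWp.to_le hKlt.le)
    have hn2 : n ≤ 2 := by
      by_contra h
      have : 2 ^ 3 ≤ 2 ^ n := Nat.pow_le_pow_right (by norm_num) (by omega)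
      omega
    by_cases hn2' : n ≤ 1
    · -- `K = ⟨z⟩`
      have hKz : K ≤ zpowers z := by
        refine (eq_of_le_of_card_ge (zpowers_le.2 hzK) ?_).ge
        rw [Nat.card_zpowers, orderOf_eq_prime (p := 2) (by rw [pow_two, e.sq]) e.ne, hn]
        exact (Nat.pow_le_pow_right (by norm_num) hn2').trans (by norm_num)
      obtain ⟨i, hi⟩ := mem_zpowers_iff.1 (hKz hmem)
      rw [← hi]
      rcases Int.even_or_odd i with ⟨k, rfl⟩ | ⟨k, rfl⟩
      · left; rw [← two_mul, zpow_mul, zpow_ofNat, pow_two, e.sq, one_zpow]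
      · right; rw [zpow_add_one, zpow_mul, zpow_ofNat, pow_two, e.sq, one_zpow, one_mul]
    -- `K` would be an invariant subgroup of index two
    exfalso
    obtain rfl : n = 2 := by omega
    have hle := commutator_le_of_index_two hKlt.le (by rw [e.card, hn]; norm_num) hHK hHW
    rw [hWH] at hle
    exact hKlt.not_ge hle

/-- A good group with `[R, H]` small equals `[R, H]`. -/
theorem good_eq_commutator {R H : Subgroup G} (hR : IsPGroup 2 R) (hg : Good R)
    (hH : (Nat.card H).Coprime 2) (hHR : H ≤ normalizer (R : Set G)) (hW : Small ⁅R, H⁆) :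
    R = ⁅R, H⁆ := by
  set W := ⁅R, H⁆ with hWd
  have hWR : W ≤ R := Coprime.commutator_le_of_le_normalizer hHR
  have hWH : ⁅W, H⁆ = W :=
    Coprime.commutator_commutator_eq hHR (coprime_card hH (hR.to_le hWR))
  have hRW : R ≤ normalizer (W : Set G) := normalizer_commutator_ge_left R H
  rcases small_commutator hW hH (Coprime.le_normalizer_commutator hHR le_normalizer) hWH hR hRW hHR
    with ⟨h4, h2, hc⟩ | ⟨z, e, hx⟩
  · exact eq_four hR hg hWR h4 h2 hc
  · refine le_antisymm (fun x hxR => ?_) hWR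
    obtain ⟨f, hf, hfc⟩ := e.exists_inner (hx x hxR)
    have h := e.centralizer_le hR hg hWR ⟨R.mul_mem (R.inv_mem (hWR hf)) hxR, hfc⟩
    have h' := W.mul_mem hf (zpowers_le.2 e.mem h)
    rwa [mul_inv_cancel_left] at h'

/-- The data of the special case: the centre `Φ`. -/
structure Shape (X Φ : Subgroup G) : Prop where
  le : Φ ≤ X
  central : X ≤ centralizer (Φ : Set G)
  frattini_eq : (frattini ↥X).map X.subtype = Φ
  commutator_eq : ⁅X, X⁆ = Φ
  center_le : X ⊓ centralizer (X : Set G) ≤ Φ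
  expTwo : ∀ z ∈ Φ, z * z = 1
  card : Nat.card Φ = 2 ∨ Nat.card Φ = 4

/-- A good group `X = [X, H]` is small, assuming its structure is known. -/
theorem small_of_shape {X H : Subgroup G} (hX : IsPGroup 2 X) (hH : (Nat.card H).Coprime 2)
    (hHX : H ≤ normalizer (X : Set G)) (hXH : ⁅X, H⁆ = X) (hne : X ≠ ⊥) (hg : Good X)
    (hs : (∀ a ∈ X, ∀ b ∈ X, a * b = b * a) ∨ ∃ Φ, Shape X Φ) : Small X := by
  have : Fact (Nat.Prime 2) := ⟨Nat.prime_two⟩
  by_cases hc : ∀ a ∈ X, ∀ b ∈ X, a * b = b * a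
  · rcases abelian_good hX hc hg hH hHX with h | h
    · refine absurd ?_ hne
      rw [← hXH, commutator_eq_bot_iff_le_centralizer]
      exact le_centralizer_iff.1 h
    · exact Or.inl h
  obtain ⟨Φ, s⟩ := hs.resolve_left hc
  rcases s.card with hΦ | hΦ
  swap
  · refine absurd (fun a ha b hb => ?_) hc
    have hXΦ := eq_four hX hg s.le hΦ s.expTwo s.central
    exact (mem_centralizer_iff.1 (s.central ha) b (hXΦ.le hb)).symm
  obtain ⟨z, hzΦ, hz1⟩ : ∃ z ∈ Φ, z ≠ 1 := by
    refine (Φ.bot_or_exists_ne_one).resolve_left fun h => ?_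
    rw [h, card_bot] at hΦ
    norm_num at hΦ
  have hΦz : Φ = zpowers z := by
    refine (eq_of_le_of_card_ge (zpowers_le.2 hzΦ) ?_).symm
    rw [Nat.card_zpowers, orderOf_eq_prime (p := 2) (by rw [pow_two, s.expTwo z hzΦ]) hz1, hΦ]
  have hz2 : z * z = 1 := s.expTwo z hzΦ
  have hzel : ∀ w ∈ Φ, w = 1 ∨ w = z := fun w hw => by
    obtain ⟨i, rfl⟩ := mem_zpowers_iff.1 (hΦz ▸ hw)
    rcases Int.even_or_odd i with ⟨k, rfl⟩ | ⟨k, rfl⟩
    · left; rw [← two_mul, zpow_mul, zpow_ofNat, pow_two, hz2, one_zpow]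
    · right; rw [zpow_add_one, zpow_mul, zpow_ofNat, pow_two, hz2, one_zpow, one_mul]
  have hzc : ∀ w ∈ X, z * w = w * z := fun w hw => mem_centralizer_iff.1 (s.central hw) z hzΦ
  have hsq : ∀ w ∈ X, w * w = 1 ∨ w * w = z := fun w hw => by
    refine hzel _ (s.frattini_eq ▸ ⟨(⟨w, hw⟩ : X) ^ 2, PFrattini.pow_mem_frattini hX _, ?_⟩)
    rw [map_pow, pow_two]
    rfl
  have hcomm : ∀ a ∈ X, ∀ b ∈ X, ⁅a, b⁆ = 1 ∨ ⁅a, b⁆ = z := fun a ha b hb =>
    hzel _ (s.commutator_eq ▸ commutator_mem_commutator ha hb)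
  -- the index of a centraliser
  have hindex : ∀ x ∈ X, Nat.card X ≤ 2 * Nat.card ↥(X ⊓ centralizer ({x} : Set G)) := by
    intro x hx
    set C := X ⊓ centralizer ({x} : Set G) with hC
    by_cases hall : X ≤ centralizer ({x} : Set G)
    · rw [hC, inf_eq_left.2 hall]; omega
    obtain ⟨y, hy, hyx⟩ := SetLike.not_le_iff_exists.1 hall
    have hfl : ∀ b ∈ X, b ∉ centralizer ({x} : Set G) → b * x * b⁻¹ = z * x := by
      intro b hb hbx
      rcases hcomm b hb x hx with h | h
      · exact absurd (mem_centralizer_singleton_iff.2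
          (commutatorElement_eq_one_iff_mul_comm.1 h)) hbx
      · rw [← h, commutatorElement_def]; group
    have h2 : C.relIndex X = 2 := by
      refine TwoGroup.relIndex_eq_two hy (fun h => hyx h.2) inf_le_left fun b hb => ?_
      by_cases hbx : b ∈ centralizer ({x} : Set G)
      · exact Or.inl ⟨hb, hbx⟩
      refine Or.inr ⟨mul_mem hb hy, mem_centralizer_singleton_iff.2 (mul_inv_eq_iff_eq_mul.1 ?_)⟩
      calc b * y * x * (b * y)⁻¹ = b * (y * x * y⁻¹) * b⁻¹ := by group
        _ = (b * z * b⁻¹) * (b * x * b⁻¹) := by rw [hfl y hy hyx]; group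
        _ = x := by rw [← hzc b hb, hfl b hb hbx, mul_inv_cancel_right, ← mul_assoc, hz2, one_mul]
    rw [← relIndex_bot_left X, ← relIndex_mul_relIndex ⊥ C X bot_le inf_le_left, h2,
      relIndex_bot_left]
    omega
  have hzX := s.le hzΦ
  -- an element of order four
  obtain ⟨a, haX, ha⟩ : ∃ a ∈ X, a * a = z := by
    by_contra hno
    push Not at hno
    exact hc (comm_of_sq_one fun w hw => (hsq w hw).resolve_right (hno w hw))
  have ha2 : a ^ 2 = z := by rw [pow_two, ha]
  have ha4 : orderOf a = 2 * 2 := by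
    rw [show 2 * 2 = 2 ^ (1 + 1) from rfl]
    exact orderOf_eq_prime_pow (p := 2) (n := 1) (by rw [pow_one, ha2]; exact hz1)
      (by rw [show (2 : ℕ) ^ (1 + 1) = 2 * 2 from rfl, pow_mul, ha2, pow_two, hz2])
  have hanotz : a ∉ Φ := fun h => by
    rcases hzel a h with h | h
    · rw [h, one_mul] at ha; exact hz1 ha.symm
    · rw [h, hz2] at ha; exact hz1 ha.symm
  have hle8 : (∃ x ∈ X, x * x = 1 ∧ x ≠ 1 ∧ x ≠ z) → Nat.card X ≤ 8 := by
    rintro ⟨x, hx, hx2, hx1, hxz⟩
    obtain ⟨h4, h22⟩ := four_closure hz2 hx2 hz1 hx1 hxz (hzc x hx)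
    set U := zpowers z ⊔ zpowers x with hU
    have hUX : U ≤ X := sup_le (zpowers_le.2 hzX) (zpowers_le.2 hx)
    have hUc : U ≤ centralizer ({x} : Set G) := sup_le
      (zpowers_le.2 (mem_centralizer_singleton_iff.2 (hzc x hx)))
      (zpowers_le.2 (mem_centralizer_singleton_iff.2 rfl))
    have he := eq_four (Y := X ⊓ centralizer ({x} : Set G)) (hX.to_le inf_le_left)
      (hg.mono inf_le_left) (le_inf hUX hUc) h4 h22 (fun y hy => by
        refine mem_centralizer_iff.2 fun u hu => ?_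
        have : U ≤ centralizer ({y} : Set G) := sup_le
          (zpowers_le.2 (mem_centralizer_singleton_iff.2 (hzc y hy.1)))
          (zpowers_le.2 (mem_centralizer_singleton_iff.2 (mem_centralizer_singleton_iff.1 hy.2).symm))
        exact mem_centralizer_singleton_iff.1 (this hu))
    have := hindex x hx
    rw [he, h4] at this
    exact this
  -- no further involutions
  have hnoinv : ∀ x ∈ X, x * x = 1 → x = 1 ∨ x = z := by
    intro x hx hx2
    by_contra hcon
    push Not at hcon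
    have h8 := hle8 ⟨x, hx, hx2, hcon.1, hcon.2⟩
    set K := zpowers a with hK
    have hKX : K ≤ X := zpowers_le.2 haX
    have hxK : x ∉ K := fun h => by
      obtain ⟨i, rfl⟩ := mem_zpowers_iff.1 h
      rcases Int.even_or_odd i with ⟨k, rfl⟩ | ⟨k, rfl⟩
      · have : a ^ (k + k) ∈ Φ := by
          rw [← two_mul, zpow_mul, zpow_ofNat, ha2]; exact zpow_mem hzΦ k
        exact (hzel _ this).elim hcon.1 hcon.2
      · refine hz1 ?_
        rw [← hx2, ← zpow_add, show 2 * k + 1 + (2 * k + 1) = 2 * (2 * k + 1) by ring, zpow_mul,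
          zpow_ofNat, ha2, zpow_add_one, zpow_mul, zpow_ofNat, pow_two, hz2, one_zpow, one_mul]
    have hK4 : Nat.card K = 4 := by rw [hK, Nat.card_zpowers, ha4]
    have hcard : Nat.card X = 2 * Nat.card K := by
      have hlt : K < X := lt_of_le_of_ne hKX fun e => hxK (e ▸ hx)
      have := Offenders.le_card_relIndex_step hX hlt
      omega
    have hi2 := relIndex_two_of_card hKX Nat.card_pos hcard
    -- all elements of order four lie in `K`
    have hfour : ∀ b ∈ X, b * b = z → b ∈ K := by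
      intro b hb hbb
      by_contra hbK
      have hbx : b⁻¹ * x ∈ K := by
        have h := (mul_mem_iff_of_index_two hi2 (a := (⟨b⁻¹, inv_mem hb⟩ : X)) (b := ⟨x, hx⟩))
        rw [mem_subgroupOf, mem_subgroupOf, mem_subgroupOf] at h
        exact h.2 (iff_of_false (fun h' => hbK (inv_mem_iff.1 h')) hxK)
      obtain ⟨i, hi⟩ := mem_zpowers_iff.1 hbx
      have hxe : x = b * a ^ i := by rw [hi, mul_inv_cancel_left]
      rcases hcomm b hb a haX with h | h
      · refine hc fun u hu v hv => ?_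
        have hXc : X ≤ centralizer ({a} : Set G) := by
          intro w hw
          by_cases hwK : w ∈ K
          · exact zpowers_le.2 (mem_centralizer_singleton_iff.2 rfl) hwK
          have hbw : b⁻¹ * w ∈ K := by
            have h := (mul_mem_iff_of_index_two hi2 (a := (⟨b⁻¹, inv_mem hb⟩ : X)) (b := ⟨w, hw⟩))
            rw [mem_subgroupOf, mem_subgroupOf, mem_subgroupOf] at h
            exact h.2 (iff_of_false (fun h' => hbK (inv_mem_iff.1 h')) hwK)
          obtain ⟨k, hk⟩ := mem_zpowers_iff.1 hbw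
          refine mem_centralizer_singleton_iff.2 ?_
          rw [show w = b * a ^ k by rw [hk, mul_inv_cancel_left]]
          have hba : Commute b a := commutatorElement_eq_one_iff_commute.1 h
          exact (hba.mul_left ((Commute.refl a).zpow_left k)).eq
        have hgen : ∀ w ∈ X, ∃ e : ℕ, ∃ k : ℤ, w = b ^ e * a ^ k := by
          intro w hw
          by_cases hwK : w ∈ K
          · obtain ⟨k, hk⟩ := mem_zpowers_iff.1 hwK
            exact ⟨0, k, by rw [pow_zero, one_mul, hk]⟩
          have hbw : b⁻¹ * w ∈ K := by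
            have h := (mul_mem_iff_of_index_two hi2 (a := (⟨b⁻¹, inv_mem hb⟩ : X)) (b := ⟨w, hw⟩))
            rw [mem_subgroupOf, mem_subgroupOf, mem_subgroupOf] at h
            exact h.2 (iff_of_false (fun h' => hbK (inv_mem_iff.1 h')) hwK)
          obtain ⟨k, hk⟩ := mem_zpowers_iff.1 hbw
          exact ⟨1, k, by rw [pow_one, hk, mul_inv_cancel_left]⟩
        have hba : Commute b a := commutatorElement_eq_one_iff_commute.1 h
        obtain ⟨e1, k1, rfl⟩ := hgen u hu
        obtain ⟨e2, k2, rfl⟩ := hgen v hv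
        exact (((Commute.pow_pow_self b e1 e2).mul_right ((hba.pow_left e1).zpow_right k2)).mul_left
          (((hba.pow_left e2).zpow_right k1).symm.mul_right (Commute.zpow_zpow_self a k1 k2))).eq
      · refine hz1 ?_
        have hconj : b * a * b⁻¹ = a⁻¹ := by
          rw [show b * a * b⁻¹ = ⁅b, a⁆ * a by group, h, ← ha]
          refine eq_inv_of_mul_eq_one_left ?_
          calc a * a * a * a = z * z := by rw [← ha]; group
            _ = 1 := hz2
        have hcon' : b * a ^ i * b⁻¹ = (a ^ i)⁻¹ := by rw [← conj_zpow, hconj, inv_zpow]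
        calc z = b * b := hbb.symm
          _ = (b * a ^ i) * (b * a ^ i) := by
              rw [show b * a ^ i * (b * a ^ i) = (b * a ^ i * b⁻¹) * (b * b) * a ^ i by group, hcon',
                hbb, mul_assoc, hzc (a ^ i) (zpow_mem haX i), ← mul_assoc, inv_mul_cancel, one_mul]
          _ = 1 := by rw [← hxe, hx2]
    have hHK : H ≤ normalizer (K : Set G) := by
      have key : ∀ h ∈ H, ∀ w ∈ K, h * w * h⁻¹ ∈ K := by
        intro h hh w hw
        obtain ⟨i, rfl⟩ := mem_zpowers_iff.1 hw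
        rw [← conj_zpow]
        refine zpow_mem (hfour _ ((mem_normalizer_iff.1 (hHX hh) a).1 haX) ?_) i
        -- `H` fixes `z`
        have hz' : h * z * h⁻¹ = z := by
          have hzh : h * z * h⁻¹ ∈ Φ := by
            have := Coprime.normalizer_le_normalizer_map_of_characteristic (K := X) (frattini ↥X)
              (hC := frattini_characteristic) (hHX hh)
            rw [s.frattini_eq] at this
            exact (mem_normalizer_iff.1 this z).1 hzΦ
          exact (hzel _ hzh).resolve_left fun e => hz1 (conj_eq_one_iff.1 e)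
        calc h * a * h⁻¹ * (h * a * h⁻¹) = h * (a * a) * h⁻¹ := by group
          _ = z := by rw [ha, hz']
      intro h hh
      refine mem_normalizer_iff.2 fun w => ⟨key h hh w, fun hw => ?_⟩
      have := key h⁻¹ (inv_mem hh) _ hw
      simpa [mul_assoc] using this
    have hle := commutator_le_of_index_two hKX hcard hHK hHX
    rw [hXH] at hle
    exact hxK (hle hx)
  -- the order is eight
  refine Or.inr ⟨z, ⟨?_, hzX, hz1, hz2, hzc, fun w hw => ?_, hcomm, hc⟩⟩
  · set C := X ⊓ centralizer ({a} : Set G) with hC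
    have hCa : C = zpowers a := by
      refine le_antisymm (fun y hy => ?_)
        (zpowers_le.2 ⟨haX, mem_centralizer_singleton_iff.2 rfl⟩)
      have hya : y * a = a * y := mem_centralizer_singleton_iff.1 hy.2
      rcases hsq y hy.1 with h | h
      · rcases hnoinv y hy.1 h with rfl | rfl
        · exact one_mem _
        · exact ha ▸ mul_mem (mem_zpowers a) (mem_zpowers a)
      · have h1 : a * y * (a * y) = 1 := by
          calc a * y * (a * y) = a * (y * a) * y := by group
            _ = (a * a) * (y * y) := by rw [hya]; group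
            _ = 1 := by rw [ha, h, hz2]
        rcases hnoinv (a * y) (mul_mem haX hy.1) h1 with e | e
        · rw [show y = a⁻¹ from eq_inv_of_mul_eq_one_right e]
          exact inv_mem (mem_zpowers a)
        · rw [show y = a⁻¹ * z from eq_inv_mul_of_mul_eq e]
          exact mul_mem (inv_mem (mem_zpowers a)) (ha ▸ mul_mem (mem_zpowers a) (mem_zpowers a))
    have hle := hindex a haX
    rw [← hC, hCa, Nat.card_zpowers, ha4] at hle
    have hlt : zpowers a < X := lt_of_le_of_ne (zpowers_le.2 haX) fun e => hc fun u hu v hv => by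
      rw [← e] at hu hv
      obtain ⟨i, rfl⟩ := mem_zpowers_iff.1 hu
      obtain ⟨k, rfl⟩ := mem_zpowers_iff.1 hv
      exact (Commute.zpow_zpow_self a i k).eq
    have hstep := Offenders.le_card_relIndex_step hX hlt
    rw [Nat.card_zpowers, ha4] at hstep
    omega
  · rcases hsq w hw with h | h
    · exact (hnoinv w hw h).elim Or.inl fun h' => Or.inr (Or.inl h')
    · exact Or.inr (Or.inr h)

/-- A fixed element of `X = [X, H]` lies in the Frattini subgroup. -/
theorem fixed_mem_frattini {X H : Subgroup G} (hX : IsPGroup 2 X) (hH : (Nat.card H).Coprime 2)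
    (hHX : H ≤ normalizer (X : Set G)) (hXH : ⁅X, H⁆ = X) {c : G} (hcX : c ∈ X)
    (hc : ∀ h ∈ H, h * c = c * h) : c ∈ (frattini ↥X).map X.subtype := by
  have : Fact (Nat.Prime 2) := ⟨Nat.prime_two⟩
  have hn : (frattini ↥X).Normal := inferInstance
  have hQc : ∀ a b : ↥X ⧸ frattini ↥X, a * b = b * a := by
    intro a b
    obtain ⟨a, rfl⟩ := QuotientGroup.mk'_surjective (frattini ↥X) a
    obtain ⟨b, rfl⟩ := QuotientGroup.mk'_surjective (frattini ↥X) b
    rw [← commutatorElement_eq_one_iff_mul_comm, ← map_commutatorElement, QuotientGroup.mk'_apply,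
      QuotientGroup.eq_one_iff]
    exact PFrattini.commutator_le_frattini hX (commutator_mem_commutator (mem_top _) (mem_top _))
  letI : CommGroup (↥X ⧸ frattini ↥X) :=
    { (inferInstance : Group (↥X ⧸ frattini ↥X)) with mul_comm := hQc }
  have := Fintype.ofFinite H
  let θ : H → ↥X →* ↥X ⧸ frattini ↥X := fun h =>
    (QuotientGroup.mk' (frattini ↥X)).comp (normalizerMonoidHom X ⟨h, hHX h.2⟩).toMonoidHom
  let N : ↥X →* ↥X ⧸ frattini ↥X := ∏ h : H, θ h
  have hN : ∀ u : ↥X, N u = ∏ h : H, θ h u := fun u => by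
    simp only [N, MonoidHom.finsetProd_apply]
  have hker : X ≤ N.ker.map X.subtype := by
    conv_lhs => rw [← hXH]
    refine commutator_le.2 fun u hu k hk => ?_
    have hmem : k * u⁻¹ * k⁻¹ ∈ X := (mem_normalizer_iff.1 (hHX hk) _).1 (inv_mem hu)
    refine ⟨⟨u, hu⟩ * ⟨_, hmem⟩, ?_, by simp [commutatorElement_def, mul_assoc]⟩
    rw [SetLike.mem_coe, MonoidHom.mem_ker, map_mul]
    have hshift : N ⟨_, hmem⟩ = N (⟨u, hu⟩⁻¹) := by
      rw [hN, hN]
      refine Fintype.prod_equiv (Equiv.mulRight (⟨k, hk⟩ : H)) _ _ fun h => ?_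
      refine congrArg (QuotientGroup.mk' (frattini ↥X)) (Subtype.ext ?_)
      show (h : G) * (k * u⁻¹ * k⁻¹) * (h : G)⁻¹ = (h : G) * k * u⁻¹ * ((h : G) * k)⁻¹
      group
    rw [hshift, map_inv, mul_inv_cancel]
  obtain ⟨c', hc', hcc⟩ := hker hcX
  obtain rfl : c' = ⟨c, hcX⟩ := Subtype.ext hcc
  rw [SetLike.mem_coe, MonoidHom.mem_ker, hN] at hc'
  have hθ : ∀ h : H, θ h ⟨c, hcX⟩ = QuotientGroup.mk' (frattini ↥X) ⟨c, hcX⟩ := fun h => by
    refine congrArg (QuotientGroup.mk' (frattini ↥X)) (Subtype.ext ?_)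
    show (h : G) * c * (h : G)⁻¹ = c
    rw [hc h h.2, mul_inv_cancel_right]
  rw [Finset.prod_congr rfl fun h _ => hθ h, Finset.prod_const, Finset.card_univ,
    ← Nat.card_eq_fintype_card] at hc'
  have h2 : QuotientGroup.mk' (frattini ↥X) ⟨c, hcX⟩ ^ 2 = 1 := by
    rw [← map_pow, QuotientGroup.mk'_apply, QuotientGroup.eq_one_iff]
    exact PFrattini.pow_mem_frattini hX _
  have h1 := pow_gcd_eq_one.2 ⟨hc', h2⟩
  rw [hH, pow_one, QuotientGroup.mk'_apply, QuotientGroup.eq_one_iff] at h1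
  exact ⟨_, h1, rfl⟩

/-- **Structure.** -/
theorem shape {X H : Subgroup G} (hX : IsPGroup 2 X) (hH : (Nat.card H).Coprime 2)
    (hHX : H ≤ normalizer (X : Set G)) (hXH : ⁅X, H⁆ = X) (hne : X ≠ ⊥)
    (hg : ∀ Y < X, H ≤ normalizer (Y : Set G) → Good Y) :
    (∀ a ∈ X, ∀ b ∈ X, a * b = b * a) ∨ ∃ Φ, Shape X Φ := by
  induction hn : Nat.card X using Nat.strong_induction_on generalizing X with
  | _ n ih =>
  subst hn
  have : Fact (Nat.Prime 2) := ⟨Nat.prime_two⟩
  by_cases hab : ∀ a ∈ X, ∀ b ∈ X, a * b = b * a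
  · exact Or.inl hab
  right
  set Φ := (frattini ↥X).map X.subtype with hΦd
  have hΦle : Φ ≤ X := map_subtype_le _
  have hΦlt : Φ < X := by
    refine lt_of_le_of_ne hΦle fun e => hne ?_
    have htop : frattini ↥X = ⊤ := by
      apply map_injective X.subtype_injective
      rw [← MonoidHom.range_eq_map, range_subtype]
      exact e
    refine _root_.eq_bot_iff.2 fun g hgX => ?_
    have hb : (⊥ : Subgroup ↥X) = ⊤ := frattini_nongenerating (by rw [bot_sup_eq, htop])
    have : (⟨g, hgX⟩ : ↥X) ∈ (⊥ : Subgroup ↥X) := hb ▸ mem_top _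
    exact congrArg Subtype.val (mem_bot.1 this)
  have hNΦ : normalizer (X : Set G) ≤ normalizer (Φ : Set G) :=
    Coprime.normalizer_le_normalizer_map_of_characteristic (K := X) (frattini ↥X)
      (hC := frattini_characteristic)
  have hHΦ : H ≤ normalizer (Φ : Set G) := hHX.trans hNΦ
  have hXΦ : X ≤ normalizer (Φ : Set G) := le_normalizer.trans hNΦ
  have hgΦ := hg Φ hΦlt hHΦ
  have hΦp : IsPGroup 2 Φ := hX.to_le hΦle
  -- `Φ` is central
  have hcentral : X ≤ centralizer (Φ : Set G) := by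
    by_cases hW : ⁅Φ, H⁆ = ⊥
    · have hHc : Φ ≤ centralizer (H : Set G) := commutator_eq_bot_iff_le_centralizer.1 hW
      have h1 : ⁅⁅X, Φ⁆, H⁆ = ⊥ := by
        rw [commutator_eq_bot_iff_le_centralizer]
        exact (commutator_le.2 fun u hu v hv => by
          rw [commutatorElement_def]
          exact mul_mem ((mem_normalizer_iff.1 (hXΦ hu) v).1 hv) (inv_mem hv)).trans hHc
      have h2 : ⁅⁅Φ, H⁆, X⁆ = ⊥ := by rw [hW, commutator_bot_left]
      have h3 := commutator_commutator_eq_bot_of_rotate h1 h2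
      rw [commutator_comm H X, hXH, commutator_eq_bot_iff_le_centralizer] at h3
      exact h3
    · set W := ⁅Φ, H⁆ with hWd
      have hWle : W ≤ Φ := Coprime.commutator_le_of_le_normalizer hHΦ
      have hWH : ⁅W, H⁆ = W :=
        Coprime.commutator_commutator_eq hHΦ (coprime_card hH (hΦp.to_le hWle))
      have hHW : H ≤ normalizer (W : Set G) := Coprime.le_normalizer_commutator hHΦ le_normalizer
      have hlt : Nat.card W < Nat.card X := by
        refine lt_of_le_of_lt (card_le_of_le hWle) (lt_of_le_of_ne (card_le_of_le hΦle) fun e => ?_)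
        exact hΦlt.ne (eq_of_le_of_card_ge hΦle e.ge)
      have hsmall : Small W := small_of_shape (hΦp.to_le hWle) hH hHW hWH hW (hgΦ.mono hWle)
        (ih _ hlt (hΦp.to_le hWle) hHW hWH hW (fun Y hY _ => hgΦ.mono (hY.le.trans hWle)) rfl)
      have hΦW : Φ = W := good_eq_commutator hΦp hgΦ hH hHΦ hsmall
      rcases small_commutator hsmall hH hHW hWH hX (hΦW ▸ hXΦ) hHX with ⟨-, -, h⟩ | ⟨z, e, hx⟩
      · rw [hΦW]; exact h
      · exfalso
        have hsup : (X ⊓ centralizer (W : Set G)).subgroupOf X ⊔ frattini ↥X = ⊤ := by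
          refine eq_top_iff.2 fun u _ => ?_
          obtain ⟨f, hf, hfc⟩ := e.exists_inner (hx u u.2)
          obtain ⟨f', hf', hfe⟩ : f ∈ Φ := hΦW ▸ hf
          rw [show u = f' * (f'⁻¹ * u) by rw [mul_inv_cancel_left]]
          refine mul_mem (mem_sup_right hf') (mem_sup_left (mem_subgroupOf.2 ⟨(f'⁻¹ * u).2, ?_⟩))
          push_cast
          rw [show (f' : G) = f from hfe]
          exact hfc
        have hXc := frattini_nongenerating hsup
        rw [subgroupOf_eq_top] at hXc
        refine e.nonabelian fun a ha b hb => ?_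
        exact mem_centralizer_iff.1 ((hXc (hΦle (hΦW ▸ hb))).2) a ha
  have hΦc : ∀ a ∈ Φ, ∀ b ∈ Φ, a * b = b * a := fun a ha b hb =>
    mem_centralizer_iff.1 (hcentral (hΦle hb)) a ha
  have hcomm : ⁅X, X⁆ ≤ Φ := by
    refine commutator_le.2 fun a ha b hb => ⟨⁅(⟨a, ha⟩ : X), ⟨b, hb⟩⁆,
      PFrattini.commutator_le_frattini hX (commutator_mem_commutator (mem_top _) (mem_top _)), rfl⟩
  have hsq : ∀ a ∈ X, a * a ∈ Φ := fun a ha =>
    ⟨(⟨a, ha⟩ : X) ^ 2, PFrattini.pow_mem_frattini hX _, by rw [map_pow, pow_two]; rfl⟩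
  -- squares
  have hmulsq : ∀ a ∈ X, ∀ b ∈ X, a * b * (a * b) = a * a * ⁅a⁻¹, b⁆ * (b * b) := fun a _ b _ => by
    rw [commutatorElement_def]; group
  have hcsq : ∀ a ∈ X, ∀ b ∈ X, ⁅a, b⁆ * ⁅a, b⁆ = 1 := by
    intro a ha b hb
    have hz := hcomm (commutator_mem_commutator ha hb)
    have h1 : ⁅a, b⁆ * ⁅a, b⁆ = ⁅a, b * b⁆ := by
      calc ⁅a, b⁆ * ⁅a, b⁆ = ⁅a, b⁆ * (b * ⁅a, b⁆ * b⁻¹) := by
            rw [← mem_centralizer_iff.1 (hcentral hb) _ hz, mul_inv_cancel_right]
        _ = ⁅a, b * b⁆ := by rw [commutatorElement_def, commutatorElement_def]; group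
    rw [h1, commutatorElement_eq_one_iff_mul_comm]
    exact (mem_centralizer_iff.1 (hcentral ha) _ (hsq b hb)).symm
  have hexp : ∀ w ∈ Φ, w * w = 1 := by
    have hfour : ∀ a ∈ X, (a * a) * (a * a) = 1 := by
      rcases abelian_good hΦp hΦc hgΦ hH hHΦ with hfix | ⟨-, h⟩
      swap
      · exact fun a ha => h _ (hsq a ha)
      let K : Subgroup G :=
        { carrier := {a | a ∈ X ∧ a * a * (a * a) = 1}
          one_mem' := ⟨one_mem _, by simp⟩
          mul_mem' := fun {a b} ha hb => ⟨mul_mem ha.1 hb.1, by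
            have hA := hsq a ha.1
            have hB := hsq b hb.1
            have hC := hcomm (commutator_mem_commutator (X.inv_mem ha.1) hb.1)
            rw [hmulsq a ha.1 b hb.1]
            calc a * a * ⁅a⁻¹, b⁆ * (b * b) * (a * a * ⁅a⁻¹, b⁆ * (b * b))
                = (a * a) * (a * a) * (⁅a⁻¹, b⁆ * ⁅a⁻¹, b⁆) * ((b * b) * (b * b)) := by
                  have c1 : Commute (a * a) ⁅a⁻¹, b⁆ := hΦc _ hA _ hC
                  have c2 : Commute (a * a) (b * b) := hΦc _ hA _ hB
                  have c3 : Commute ⁅a⁻¹, b⁆ (b * b) := hΦc _ hC _ hB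
                  set A := a * a
                  set C := ⁅a⁻¹, b⁆
                  set B := b * b
                  calc A * C * B * (A * C * B) = A * C * (B * A) * (C * B) := by group
                    _ = A * (C * A) * (B * C) * B := by rw [← c2.eq]; group
                    _ = A * A * (C * C) * (B * B) := by rw [← c1.eq, ← c3.eq]; group
              _ = 1 := by rw [ha.2, hb.2, hcsq _ (X.inv_mem ha.1) _ hb.1]; simp⟩
          inv_mem' := fun {a} ha => ⟨inv_mem ha.1, by
            rw [show a⁻¹ * a⁻¹ * (a⁻¹ * a⁻¹) = (a * a * (a * a))⁻¹ by group, ha.2, inv_one]⟩ }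
      have hXK : X ≤ K := by
        conv_lhs => rw [← hXH]
        refine commutator_le.2 fun u hu k hk => ?_
        have hv : k * u⁻¹ * k⁻¹ ∈ X := (mem_normalizer_iff.1 (hHX hk) _).1 (inv_mem hu)
        have hA := hsq u hu
        refine ⟨by rw [commutatorElement_def, mul_assoc, mul_assoc]; exact mul_mem hu (by
          simpa [mul_assoc] using hv), ?_⟩
        have hC := hcomm (commutator_mem_commutator (X.inv_mem hu) hv)
        have hB := hsq _ hv
        have hBA : (k * u⁻¹ * k⁻¹) * (k * u⁻¹ * k⁻¹) = (u * u)⁻¹ := by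
          have := mem_centralizer_iff.1 (hfix hk) _ (inv_mem hA)
          calc k * u⁻¹ * k⁻¹ * (k * u⁻¹ * k⁻¹) = k * (u * u)⁻¹ * k⁻¹ := by group
            _ = (u * u)⁻¹ := by rw [← this, mul_inv_cancel_right]
        rw [show ⁅u, k⁆ = u * (k * u⁻¹ * k⁻¹) by rw [commutatorElement_def]; group,
          hmulsq u hu _ hv, hBA]
        have c1 : Commute (u * u) ⁅u⁻¹, k * u⁻¹ * k⁻¹⁆ := hΦc _ hA _ hC
        calc u * u * ⁅u⁻¹, k * u⁻¹ * k⁻¹⁆ * (u * u)⁻¹ * (u * u * ⁅u⁻¹, k * u⁻¹ * k⁻¹⁆ * (u * u)⁻¹)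
            = u * u * (⁅u⁻¹, k * u⁻¹ * k⁻¹⁆ * ⁅u⁻¹, k * u⁻¹ * k⁻¹⁆) * (u * u)⁻¹ := by group
          _ = 1 := by rw [hcsq _ (X.inv_mem hu) _ hv]; group
      exact fun a ha => (hXK ha).2
    intro w hw
    obtain ⟨v, hv, rfl⟩ := hw
    let Ω : Subgroup ↥X :=
      { carrier := {v | v ∈ frattini ↥X ∧ v * v = 1}
        one_mem' := ⟨one_mem _, mul_one _⟩
        mul_mem' := fun {a b} ha hb => ⟨mul_mem ha.1 hb.1, by
          have hab : a * b = b * a := Subtype.ext (hΦc _ ⟨a, ha.1, rfl⟩ _ ⟨b, hb.1, rfl⟩)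
          calc a * b * (a * b) = a * (b * a) * b := by group
            _ = (a * a) * (b * b) := by rw [← hab]; group
            _ = 1 := by rw [ha.2, hb.2, one_mul]⟩
        inv_mem' := fun {a} ha => ⟨inv_mem ha.1, by rw [← mul_inv_rev, ha.2, inv_one]⟩ }
    have hΩ : frattini ↥X ≤ Ω := by
      refine PFrattini.frattini_le (p := 2) ?_ fun a => ⟨PFrattini.pow_mem_frattini hX a,
        Subtype.ext (by push_cast; rw [pow_two]; exact hfour a a.2)⟩
      rw [_root_.commutator_def]
      exact commutator_le.2 fun a _ b _ => ⟨PFrattini.commutator_le_frattini hX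
        (commutator_mem_commutator (mem_top a) (mem_top b)), Subtype.ext (hcsq a a.2 b b.2)⟩
    exact congrArg Subtype.val (hΩ hv).2
  have hcard : Nat.card Φ = 2 ∨ Nat.card Φ = 4 := by
    obtain ⟨m, hm⟩ := IsPGroup.iff_card.1 hΦp
    have hm2 : m ≤ 2 := by
      by_contra hm2
      obtain ⟨A, hA⟩ := Sylow.exists_subgroup_card_pow_prime 2
        (show 2 ^ 3 ∣ Nat.card Φ by rw [hm]; exact pow_dvd_pow _ (by omega))
      have hAΦ : A.map Φ.subtype ≤ Φ := map_subtype_le _
      have hA8 : Nat.card ↥(A.map Φ.subtype) = 8 := by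
        rw [card_map_of_injective Φ.subtype_injective, hA]; norm_num
      have hcyc := hgΦ _ hAΦ
        ⟨⟨fun a b => Subtype.ext (hΦc _ (hAΦ a.2) _ (hAΦ b.2))⟩⟩ hA8
      obtain ⟨y, hy⟩ := hcyc.exists_ofOrder_eq_natCard
      have hd : orderOf y ∣ 2 := orderOf_dvd_of_pow_eq_one (Subtype.ext (by
        push_cast
        rw [pow_two]
        exact hexp _ (hAΦ y.2)))
      rw [hy, hA8] at hd
      norm_num at hd
    have hm0 : m ≠ 0 := by
      rintro rfl
      rw [pow_zero] at hm
      refine hab fun a ha b hb => ?_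
      have hd := hcomm (commutator_mem_commutator ha hb)
      rw [card_eq_one.1 hm, mem_bot] at hd
      exact commutatorElement_eq_one_iff_mul_comm.1 hd
    interval_cases m <;> simp_all
  -- the commutator subgroup
  have hcommeq : ⁅X, X⁆ = Φ := by
    by_contra hne'
    have hDlt : ⁅X, X⁆ < Φ := lt_of_le_of_ne hcomm hne'
    have hstep := Offenders.le_card_relIndex_step hΦp hDlt
    have hD1 : 2 ≤ Nat.card ↥⁅X, X⁆ := by
      by_contra h1
      have hbot : ⁅X, X⁆ = ⊥ := by
        refine card_eq_one.1 ?_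
        have := Nat.card_pos (α := ↥⁅X, X⁆)
        omega
      refine hab fun a ha b hb => commutatorElement_eq_one_iff_mul_comm.1 ?_
      have hd := commutator_mem_commutator ha hb
      rwa [hbot, mem_bot] at hd
    have hidx : Nat.card Φ = 2 * Nat.card ↥⁅X, X⁆ := by omega
    have hHD : H ≤ normalizer ((⁅X, X⁆ : Subgroup G) : Set G) :=
      Coprime.le_normalizer_commutator hHX hHX
    have hΦD : ⁅Φ, H⁆ ≤ ⁅X, X⁆ := commutator_le_of_index_two hcomm hidx hHD hHΦ
    let K : Subgroup G :=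
      { carrier := {a | a ∈ X ∧ a * a ∈ ⁅X, X⁆}
        one_mem' := ⟨one_mem _, by rw [mul_one]; exact one_mem _⟩
        mul_mem' := fun {a b} ha hb => ⟨mul_mem ha.1 hb.1, by
          rw [hmulsq a ha.1 b hb.1]
          exact mul_mem (mul_mem ha.2 (commutator_mem_commutator (X.inv_mem ha.1) hb.1)) hb.2⟩
        inv_mem' := fun {a} ha => ⟨inv_mem ha.1, by rw [← mul_inv_rev]; exact inv_mem ha.2⟩ }
    have hXK : X ≤ K := by
      conv_lhs => rw [← hXH]
      refine commutator_le.2 fun u hu k hk => ?_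
      have hv : k * u⁻¹ * k⁻¹ ∈ X := (mem_normalizer_iff.1 (hHX hk) _).1 (inv_mem hu)
      refine ⟨by rw [commutatorElement_def, mul_assoc, mul_assoc]; exact mul_mem hu (by
        simpa [mul_assoc] using hv), ?_⟩
      rw [show ⁅u, k⁆ = u * (k * u⁻¹ * k⁻¹) by rw [commutatorElement_def]; group, hmulsq u hu _ hv]
      have h1 := hΦD (commutator_mem_commutator (hsq u hu) hk)
      have h2 := hcomm (commutator_mem_commutator (X.inv_mem hu) hv)
      have h3 : k * u⁻¹ * k⁻¹ * (k * u⁻¹ * k⁻¹) = (u * u)⁻¹ * ⁅u * u, k⁆ := by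
        rw [commutatorElement_def]; group
      rw [h3, ← mul_assoc, hΦc _ (hsq u hu) _ h2, mul_inv_cancel_right]
      exact mul_mem (commutator_mem_commutator (X.inv_mem hu) hv) h1
    refine hDlt.not_ge ?_
    rintro _ ⟨v, hv, rfl⟩
    refine mem_subgroupOf.1 ((PFrattini.frattini_le (p := 2) (N := (⁅X, X⁆).subgroupOf X) ?_
      fun a => mem_subgroupOf.2 (by push_cast; rw [pow_two]; exact (hXK a.2).2)) hv)
    rw [_root_.commutator_def]
    exact commutator_le.2 fun a _ b _ => mem_subgroupOf.2 (commutator_mem_commutator a.2 b.2)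
  -- the centre
  have hcenter : X ⊓ centralizer (X : Set G) ≤ Φ := by
    set Z := X ⊓ centralizer (X : Set G) with hZ
    have hHZ : H ≤ normalizer (Z : Set G) := Coprime.le_normalizer_inf_centralizer hHX hHX
    have hΦZ : Φ ≤ Z := le_inf hΦle (le_centralizer_iff.1 hcentral)
    have hZlt : Z < X := lt_of_le_of_ne inf_le_left fun e => hab fun a ha b hb =>
      mem_centralizer_iff.1 (mem_inf.1 (e.ge hb)).2 a ha
    have hZc : ∀ a ∈ Z, ∀ b ∈ Z, a * b = b * a := fun a ha b hb =>
      mem_centralizer_iff.1 (mem_inf.1 hb).2 a (mem_inf.1 ha).1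
    have hgZ := hg Z hZlt hHZ
    have hZp : IsPGroup 2 Z := hX.to_le inf_le_left
    have hfin : H ≤ centralizer (Z : Set G) → Z ≤ Φ := fun hfix c hc =>
      fixed_mem_frattini hX hH hHX hXH (mem_inf.1 hc).1
        fun h hh => (mem_centralizer_iff.1 (hfix hh) c hc).symm
    rcases abelian_good hZp hZc hgZ hH hHZ with hfix | ⟨h4, -⟩
    · exact hfin hfix
    rcases hcard with h2 | h2
    swap
    · exact (eq_of_le_of_card_ge hΦZ (by rw [h4, h2])).ge
    refine hfin ?_
    have hΦH : H ≤ centralizer (Φ : Set G) := by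
      rcases abelian_good hΦp hΦc hgΦ hH hHΦ with h | ⟨h, -⟩
      · exact h
      · omega
    exact Coprime.le_centralizer_of_stabilizes
      (commutator_le_of_index_two hΦZ (by rw [h4, h2]) hHΦ hHZ) hΦH (coprime_card hH hΦp)
  exact ⟨Φ, hΦle, hcentral, hΦd.symm, hcommeq, hcenter, hexp, hcard⟩

/-- A good group `X = [X, H]` is small. -/
theorem small_of_good {X H : Subgroup G} (hX : IsPGroup 2 X) (hH : (Nat.card H).Coprime 2)
    (hHX : H ≤ normalizer (X : Set G)) (hXH : ⁅X, H⁆ = X) (hne : X ≠ ⊥) (hg : Good X) : Small X :=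
  small_of_shape hX hH hHX hXH hne hg
    (shape hX hH hHX hXH hne fun _ hY _ => hg.mono hY.le)

end Cfsg.Agent.Lib.NoncyclicEight
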